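import Groth.Agent.GrModX.Sections
import Groth.Agent.QCoh.Devissage

/-!
# Exactness of `M ↦ M(n)~` for families of subgroups lifting homogeneously
-/

set_option linter.unusedSectionVars false
set_option linter.style.haveILetI false

noncomputable section

universe u

open CategoryTheory CategoryTheory.Limits AlgebraicGeometry TopologicalSpace DirectSum Opposite

namespace Groth.Agent.GrLib8.RegTilde

variable {A σ : Type u} [CommRing A] [SetLike σ A] [AddSubgroupClass σ A] (𝒜 : ℕ → σ) [GradedRing 𝒜]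
variable {M τ : Type u} [AddCommGroup M] [Module A M] [SetLike τ M] [AddSubgroupClass τ M] {ℳ : ℕ → τ}
  [SetLike.GradedSMul 𝒜 ℳ]
variable {N τ' : Type u} [AddCommGroup N] [Module A N] [SetLike τ' N] [AddSubgroupClass τ' N] {𝒩 : ℕ → τ'}
  [SetLike.GradedSMul 𝒜 𝒩]
variable {P τ'' : Type u} [AddCommGroup P] [Module A P] [SetLike τ'' P] [AddSubgroupClass τ'' P] {𝒬 : ℕ → τ''}
  [SetLike.GradedSMul 𝒜 𝒬]

/-- Some homogeneous component of an element outside a point is outside it. -/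
theorem exists_component_notMem (x : ProjectiveSpectrum 𝒜) {c : A} (hc : c ∉ x.asHomogeneousIdeal) :
    ∃ e, (decompose 𝒜 c e : A) ∉ x.asHomogeneousIdeal := by
  classical
  by_contra! h
  exact hc (by rw [← sum_support_decompose 𝒜 c]; exact Ideal.sum_mem _ fun i _ => h i)

variable {𝒜}

/-- A morphism of `O`-modules which is locally surjective on sections is an epimorphism. -/
theorem epi_of_locally_surjective {X : Scheme.{u}} {F G : X.Modules} (φ : F ⟶ G)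
    (h : ∀ (U : X.Opens) (s : Γ(G, U)) (x : U), ∃ (V : X.Opens) (hV : V ≤ U), x.1 ∈ V ∧
      ∃ t : Γ(F, V), φ.app V t = G.presheaf.map (homOfLE hV).op s) : Epi φ := by
  refine ⟨fun {Z} g g' e => Scheme.Modules.hom_ext _ _ fun U => ?_⟩
  ext s
  choose V hV hxV t ht using h U s
  refine TopCat.Sheaf.eq_of_locally_eq' ⟨Z.presheaf, Z.isSheaf⟩ V U (fun x => homOfLE (hV x))
    (fun x hx => Opens.mem_iSup.2 ⟨⟨x, hx⟩, hxV ⟨x, hx⟩⟩) _ _ fun x => ?_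
  show Z.presheaf.map (homOfLE (hV x)).op (g.app U s) = Z.presheaf.map (homOfLE (hV x)).op (g'.app U s)
  rw [← QCoh.map_app_comm, ← QCoh.map_app_comm, ← ht x]
  exact congrArg (fun ψ : F ⟶ Z => ψ.app (V x) (t x)) e

variable (𝒜) in
theorem exists_local_lift (u : M →ₗ[A] N) (hu : ∀ (i : ℕ) (m : M), m ∈ ℳ i → u m ∈ 𝒩 i)
    (v : N →ₗ[A] P) (hv : ∀ (i : ℕ) (m : N), m ∈ 𝒩 i → v m ∈ 𝒬 i)
    (hP : ∀ (c : A) (i : ℕ) (p : P), p ∈ 𝒬 i → c • p = 0 → ∀ e, (decompose 𝒜 c e : A) • p = 0)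
    (hlift : ∀ (i : ℕ) (y : N), y ∈ 𝒩 i → v y = 0 → ∃ m ∈ ℳ i, u m = y)
    (n : ℤ) (U : (Proj 𝒜).Opens) (s : Γ(GrMod.tilde 𝒜 𝒩 n, U)) (hs : (GrMod.map 𝒜 v hv n).app U s = 0)
    (x : U) : ∃ (V : (Proj 𝒜).Opens) (hV : V ≤ U), x.1 ∈ V ∧ ∃ t : Γ(GrMod.tilde 𝒜 ℳ n, V),
      (GrMod.map 𝒜 u hu n).app V t = (GrMod.tilde 𝒜 𝒩 n).presheaf.map (homOfLE hV).op s := by
  obtain ⟨V, hxV, iV, i, j, ⟨y, hy⟩, ⟨d, hd⟩, hnin, hdeg, hval⟩ :=
    (s : GrMod.sect 𝒜 𝒩 n (op U)).2 x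
  by_cases hy0 : y = 0
  · refine ⟨V, iV.le, hxV, 0, GrModX.ext_val 𝒜 𝒩 fun z => ?_⟩
    rw [map_zero]
    refine Eq.trans ?_ ((GrModX.val_res 𝒜 𝒩 (homOfLE iV.le) s z).trans (hval z)).symm
    subst hy0
    exact (LocalizedModule.zero_mk _).symm
  have hij : (i : ℤ) = j + n := hdeg.resolve_right hy0
  have h0 : (LocalizedModule.mk (v y) ⟨d, hnin ⟨x.1, hxV⟩⟩ : GrMod.LocMod 𝒜 (M := P) x.1) = 0 := by
    refine (GrMod.locMap_mk v x.1 y _).symm.trans ?_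
    refine (congrArg (GrMod.locMap v x.1) (hval ⟨x.1, hxV⟩).symm).trans ?_
    refine (GrMod.map_app_val v hv n U s x).symm.trans ?_
    rw [hs]
    rfl
  obtain ⟨c, hcx, hc⟩ := (GrModX.mk_eq_zero_iff 𝒜 x.1 (v y) _).1 h0
  obtain ⟨e, he⟩ := exists_component_notMem 𝒜 x.1 hcx
  have hce : (decompose 𝒜 c e : A) • y ∈ 𝒩 (e + i) := by
    have := SetLike.GradedSMul.smul_mem (A := 𝒜) (B := 𝒩) (SetLike.coe_mem (decompose 𝒜 c e)) hy
    rwa [vadd_eq_add] at this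
  obtain ⟨m, hm, hum⟩ := hlift (e + i) _ hce (by rw [map_smul]; exact hP c i (v y) (hv i y hy) hc e)
  let W : (Proj 𝒜).Opens := V ⊓ Proj.basicOpen 𝒜 (decompose 𝒜 c e : A)
  have hW : ∀ z : W, (decompose 𝒜 c e : A) * d ∉ z.1.asHomogeneousIdeal := fun z h =>
    (z.1.isPrime.mem_or_mem h).elim z.2.2 (hnin ⟨z.1, z.2.1⟩)
  refine ⟨W, inf_le_left.trans iV.le, ⟨hxV, he⟩,
    GrModX.fracSect 𝒜 ℳ n W (SetLike.mul_mem_graded (SetLike.coe_mem _) hd) hW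
      ((GrModX.deg_of_mem hm).congr (by push_cast; omega)), GrModX.ext_val 𝒜 𝒩 fun z => ?_⟩
  refine ((GrMod.map_app_val u hu n W _ z).trans (GrMod.locMap_mk u z.1 m _)).trans ?_
  refine Eq.trans ?_ ((GrModX.val_res 𝒜 𝒩 (homOfLE (inf_le_left.trans iV.le)) s z).trans
    (hval ⟨z.1, z.2.1⟩)).symm
  refine (congrArg (fun q => LocalizedModule.mk q _) hum).trans ?_
  rw [LocalizedModule.mk_eq]
  refine ⟨1, ?_⟩
  simp only [one_smul, Submonoid.smul_def, smul_smul]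
  rw [mul_comm d]

variable (𝒜) in
theorem epi_map_tilde (v : N →ₗ[A] P) (hv : ∀ (i : ℕ) (m : N), m ∈ 𝒩 i → v m ∈ 𝒬 i)
    (hsurj : ∀ (i : ℕ) (p : P), p ∈ 𝒬 i → ∃ y ∈ 𝒩 i, v y = p) (n : ℤ) :
    Epi (GrMod.map 𝒜 v hv n) := by
  refine epi_of_locally_surjective _ fun U s x => ?_
  obtain ⟨V, hxV, iV, i, j, ⟨p, hp⟩, ⟨d, hd⟩, hnin, hdeg, hval⟩ :=
    (s : GrMod.sect 𝒜 𝒬 n (op U)).2 x
  obtain ⟨y, hy, hvy⟩ := hsurj i p hp
  by_cases hp0 : p = 0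
  · refine ⟨V, iV.le, hxV, 0, GrModX.ext_val 𝒜 𝒬 fun z => ?_⟩
    rw [map_zero]
    refine Eq.trans ?_ ((GrModX.val_res 𝒜 𝒬 (homOfLE iV.le) s z).trans (hval z)).symm
    subst hp0
    exact (LocalizedModule.zero_mk _).symm
  refine ⟨V, iV.le, hxV, GrModX.fracSect 𝒜 𝒩 n V hd hnin
    ((GrModX.deg_of_mem hy).congr (hdeg.resolve_right hp0)), GrModX.ext_val 𝒜 𝒬 fun z => ?_⟩
  refine ((GrMod.map_app_val v hv n V _ z).trans (GrMod.locMap_mk v z.1 y _)).trans ?_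
  refine Eq.trans ?_ ((GrModX.val_res 𝒜 𝒬 (homOfLE iV.le) s z).trans (hval z)).symm
  exact congrArg (fun q => LocalizedModule.mk q _) hvy

variable (𝒜) in
theorem exact_map_tilde (u : M →ₗ[A] N) (hu : ∀ (i : ℕ) (m : M), m ∈ ℳ i → u m ∈ 𝒩 i)
    (v : N →ₗ[A] P) (hv : ∀ (i : ℕ) (m : N), m ∈ 𝒩 i → v m ∈ 𝒬 i) (huv : v ∘ₗ u = 0)
    (hP : ∀ (c : A) (i : ℕ) (p : P), p ∈ 𝒬 i → c • p = 0 → ∀ e, (decompose 𝒜 c e : A) • p = 0)
    (hlift : ∀ (i : ℕ) (y : N), y ∈ 𝒩 i → v y = 0 → ∃ m ∈ ℳ i, u m = y) (n : ℤ) :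
    ∃ w : GrMod.map 𝒜 u hu n ≫ GrMod.map 𝒜 v hv n = 0,
      Epi (kernel.lift (GrMod.map 𝒜 v hv n) (GrMod.map 𝒜 u hu n) w) := by
  have w : GrMod.map 𝒜 u hu n ≫ GrMod.map 𝒜 v hv n = 0 := by
    refine Scheme.Modules.hom_ext _ _ fun U => ?_
    ext a
    refine GrModX.ext_val 𝒜 𝒬 fun y => ?_
    show GrMod.val ((GrMod.map 𝒜 v hv n).app U ((GrMod.map 𝒜 u hu n).app U a)) y = _
    rw [GrMod.map_app_val, GrMod.map_app_val]
    induction GrMod.val a y using LocalizedModule.induction_on with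
    | h m s =>
      refine ((congrArg (GrMod.locMap v y.1) (GrMod.locMap_mk u y.1 m s)).trans (GrMod.locMap_mk v y.1 (u m) s)).trans ?_
      refine (congrArg (fun q => LocalizedModule.mk q s) (show v (u m) = 0 from LinearMap.congr_fun huv m)).trans ?_
      exact LocalizedModule.zero_mk s
  refine ⟨w, epi_of_locally_surjective _ fun U z x => ?_⟩
  obtain ⟨V, hV, hxV, t, ht⟩ := exists_local_lift 𝒜 u hu v hv hP hlift n U
    ((kernel.ι (GrMod.map 𝒜 v hv n)).app U z)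
    (congrArg (fun ψ : kernel (GrMod.map 𝒜 v hv n) ⟶ _ => ψ.app U z) (kernel.condition _)) x
  refine ⟨V, hV, hxV, t, QCoh.app_injective (kernel.ι _) V ?_⟩
  rw [QCoh.map_app_comm, ← ht]
  exact congrArg (fun ψ : GrMod.tilde 𝒜 ℳ n ⟶ _ => ψ.app V t) (kernel.lift_ι _ _ w)

end Groth.Agent.GrLib8.RegTilde
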