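import Groth.Agent.GrLib8.RegTilde.Coord
import Groth.Agent.GrLib8.RegTilde.Exact
import Groth.Agent.GrLib8.Basic
import Groth.Agent.GrLib8.Irrel
import Groth.Agent.GrLib8.HilbertFn
import Groth.Prelude.Def_GrSyz
import Groth.Prelude.Def_CohB1

/-!
# Free graded modules over a polynomial ring, in non-negative degrees
-/

set_option linter.unusedSectionVars false
set_option linter.style.haveILetI false

noncomputable section

universe u

open DirectSum MvPolynomial CategoryTheory AlgebraicGeometry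

namespace Groth.Agent.GrLib8.RegTilde

attribute [local instance 10000] CommRing.toCommSemiring CommSemiring.toSemiring

variable {k : Type u} [Field k] {r : ℕ}

theorem mem_stdGr_natCast {i : ℕ} {p : (MvPolynomial (Fin (r + 1)) k)} : p ∈ (GrSyz.stdGr k (Fin (r + 1))) (i : ℤ) ↔ p ∈ (CohB1.polyGrading r k) i := by
  rw [stdGr_natCast]

theorem eq_zero_or_exists {z : ℤ} {p : (MvPolynomial (Fin (r + 1)) k)} (hp : p ∈ (GrSyz.stdGr k (Fin (r + 1))) z) :
    p = 0 ∨ ∃ j : ℕ, (j : ℤ) = z ∧ p ∈ (CohB1.polyGrading r k) j := by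
  rcases lt_or_ge z 0 with h | h
  · exact Or.inl (stdGr_nonneg k _ z h p hp)
  · obtain ⟨j, rfl⟩ := Int.eq_ofNat_of_zero_le h
    exact Or.inr ⟨j, rfl, mem_stdGr_natCast.1 hp⟩

theorem decompose_natCast (c : (MvPolynomial (Fin (r + 1)) k)) (e : ℕ) :
    ((decompose (CohB1.polyGrading r k) c e : (CohB1.polyGrading r k) e) : (MvPolynomial (Fin (r + 1)) k)) = (decompose (GrSyz.stdGr k (Fin (r + 1))) c (e : ℤ) : (MvPolynomial (Fin (r + 1)) k)) := by
  classical
  induction c using DirectSum.Decomposition.inductionOn (CohB1.polyGrading r k) with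
  | zero => simp
  | homogeneous b =>
    rename_i i
    have hb : (b : (MvPolynomial (Fin (r + 1)) k)) ∈ (GrSyz.stdGr k (Fin (r + 1))) (i : ℤ) := mem_stdGr_natCast.2 b.2
    rcases eq_or_ne i e with h | h
    · subst h
      rw [decompose_of_mem_same (CohB1.polyGrading r k) b.2, decompose_of_mem_same (GrSyz.stdGr k (Fin (r + 1))) hb]
    · rw [decompose_of_mem_ne (CohB1.polyGrading r k) b.2 h, decompose_of_mem_ne (GrSyz.stdGr k (Fin (r + 1))) hb (by simpa using h)]
  | add a b ha hb =>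
    rw [decompose_add, decompose_add, DirectSum.add_apply, DirectSum.add_apply, AddMemClass.coe_add,
      AddMemClass.coe_add, ha, hb]

theorem coe_decompose_sum {M τ : Type*} [AddCommGroup M] [SetLike τ M] [AddSubgroupClass τ M] (ℳ : ℤ → τ)
    [DirectSum.Decomposition ℳ] {ι : Type*} (s : Finset ι) (f : ι → M) (i : ℤ) :
    (decompose ℳ (∑ b ∈ s, f b) i : M) = ∑ b ∈ s, (decompose ℳ (f b) i : M) := by
  classical
  induction s using Finset.induction with
  | empty => simp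
  | insert a s ha ih =>
    rw [Finset.sum_insert ha, Finset.sum_insert ha, decompose_add, DirectSum.add_apply,
      AddMemClass.coe_add, ih]

section FreeP

variable (k' : Type u) [CommRing k'] (r' : ℕ)

/-- The pieces of non-negative degree of the free module with basis degrees `e`. -/
def freeP {n : ℕ} (e : Fin n → ℤ) (i : ℕ) : Submodule k' (Fin n → MvPolynomial (Fin (r' + 1)) k') where
  carrier := {v | ∀ b, v b ∈ GrSyz.stdGr k' (Fin (r' + 1)) ((i : ℤ) - e b)}
  zero_mem' := fun _ => zero_mem _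
  add_mem' := fun h h' b => add_mem (h b) (h' b)
  smul_mem' := fun c _ h b => Submodule.smul_mem _ c (h b)

end FreeP

instance gradedSMul_freeP {n : ℕ} (e : Fin n → ℤ) : SetLike.GradedSMul (CohB1.polyGrading r k) (freeP k r e) :=
  ⟨fun {i j a v} ha hv b => by
    show a * v b ∈ GrSyz.stdGr k (Fin (r + 1)) (((i + j : ℕ) : ℤ) - e b)
    rw [show ((i + j : ℕ) : ℤ) - e b = (i : ℤ) + ((j : ℤ) - e b) by push_cast; ring]
    exact SetLike.mul_mem_graded (mem_stdGr_natCast.2 ha) (hv b)⟩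

variable {M : Type u} [AddCommGroup M] [Module k M] [Module (MvPolynomial (Fin (r + 1)) k) M] [IsScalarTower k (MvPolynomial (Fin (r + 1)) k) M]
  {ℳ : ℤ → Submodule k M} [DirectSum.Decomposition ℳ] [SetLike.GradedSMul (GrSyz.stdGr k (Fin (r + 1))) ℳ]
  (F : GrSyz.FreeRes (GrSyz.stdGr k (Fin (r + 1))) ℳ)

/-- The differential. -/
def dL (p : ℕ) : (Fin (F.rk (p + 1)) → MvPolynomial (Fin (r + 1)) k) →ₗ[MvPolynomial (Fin (r + 1)) k]
    (Fin (F.rk p) → MvPolynomial (Fin (r + 1)) k) := F.dLin p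

/-- The augmentation. -/
def augL : (Fin (F.rk 0) → MvPolynomial (Fin (r + 1)) k) →ₗ[MvPolynomial (Fin (r + 1)) k] M := F.augLin

theorem dLin_mem (p : ℕ) (i : ℕ) (v : Fin (F.rk (p + 1)) → (MvPolynomial (Fin (r + 1)) k)) (hv : v ∈ freeP k r (F.deg (p + 1)) i) :
    dL F p v ∈ freeP k r (F.deg p) i := fun a => by
  show ∑ b, F.d p a b * v b ∈ (GrSyz.stdGr k (Fin (r + 1))) ((i : ℤ) - F.deg p a)
  refine Submodule.sum_mem _ fun b _ => ?_
  rw [show (i : ℤ) - F.deg p a = (F.deg (p + 1) b - F.deg p a) + ((i : ℤ) - F.deg (p + 1) b) by ring]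
  exact SetLike.mul_mem_graded (F.d_mem p a b) (hv b)

theorem augLin_mem (i : ℕ) (v : Fin (F.rk 0) → (MvPolynomial (Fin (r + 1)) k)) (hv : v ∈ freeP k r (F.deg 0) i) :
    augL F v ∈ ℳ (i : ℤ) := by
  show Fintype.linearCombination (MvPolynomial (Fin (r + 1)) k) F.aug v ∈ _
  rw [Fintype.linearCombination_apply]
  refine Submodule.sum_mem _ fun b _ => ?_
  have h := SetLike.GradedSMul.smul_mem (A := (GrSyz.stdGr k (Fin (r + 1)))) (B := ℳ) (hv b) (F.aug_mem b)
  rwa [vadd_eq_add, sub_add_cancel] at h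

/-- The homogeneous component of degree `i` of a vector. -/
def comp {n : ℕ} (e : Fin n → ℤ) (i : ℤ) (v : Fin n → (MvPolynomial (Fin (r + 1)) k)) : Fin n → (MvPolynomial (Fin (r + 1)) k) :=
  fun b => (decompose (GrSyz.stdGr k (Fin (r + 1))) (v b) (i - e b) : (MvPolynomial (Fin (r + 1)) k))

theorem comp_mem {n : ℕ} (e : Fin n → ℤ) (i : ℕ) (v : Fin n → (MvPolynomial (Fin (r + 1)) k)) : comp (r := r) e i v ∈ freeP k r e i :=
  fun _ => SetLike.coe_mem _

theorem dLin_comp (p : ℕ) (i : ℤ) (v : Fin (F.rk (p + 1)) → (MvPolynomial (Fin (r + 1)) k)) :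
    F.dLin p (comp (F.deg (p + 1)) i v) = comp (F.deg p) i (F.dLin p v) := by
  classical
  funext a
  show Matrix.mulVec (F.d p) _ a = (decompose (GrSyz.stdGr k (Fin (r + 1))) (Matrix.mulVec (F.d p) v a) (i - F.deg p a) : (MvPolynomial (Fin (r + 1)) k))
  simp only [Matrix.mulVec, dotProduct]
  rw [coe_decompose_sum]
  refine Finset.sum_congr rfl fun b _ => ?_
  have h := decompose_smul_of_mem_left (GrSyz.stdGr k (Fin (r + 1))) (GrSyz.stdGr k (Fin (r + 1))) (F.d_mem p a b) (v b) (i - F.deg p a)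
  rw [smul_eq_mul, smul_eq_mul] at h
  rw [h, show i - F.deg p a - (F.deg (p + 1) b - F.deg p a) = i - F.deg (p + 1) b by ring]
  rfl

theorem augLin_comp (i : ℤ) (v : Fin (F.rk 0) → (MvPolynomial (Fin (r + 1)) k)) :
    F.augLin (comp (F.deg 0) i v) = (decompose ℳ (F.augLin v) i : M) := by
  classical
  simp only [GrSyz.FreeRes.augLin, Fintype.linearCombination_apply]
  rw [coe_decompose_sum]
  exact Finset.sum_congr rfl fun b _ => (decompose_smul_of_mem (GrSyz.stdGr k (Fin (r + 1))) ℳ (F.aug_mem b) (v b) i).symm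

theorem comp_of_mem {n : ℕ} (e : Fin n → ℤ) {i : ℕ} {v : Fin n → (MvPolynomial (Fin (r + 1)) k)} (hv : v ∈ freeP k r e i) :
    comp (r := r) e i v = v := funext fun b => decompose_of_mem_same (GrSyz.stdGr k (Fin (r + 1))) (hv b)

theorem exists_lift_aug (i : ℕ) (m : M) (hm : m ∈ ℳ (i : ℤ)) :
    ∃ v ∈ freeP k r (F.deg 0) i, augL F v = m := by
  obtain ⟨v, rfl⟩ := F.aug_surjective m
  exact ⟨_, comp_mem _ i v, (augLin_comp F i v).trans (decompose_of_mem_same ℳ hm)⟩

theorem exists_lift_zero (i : ℕ) (y : Fin (F.rk 0) → (MvPolynomial (Fin (r + 1)) k)) (hy : y ∈ freeP k r (F.deg 0) i)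
    (h : augL F y = 0) : ∃ m ∈ freeP k r (F.deg 1) i, dL F 0 m = y := by
  obtain ⟨m, rfl⟩ := (F.exact_zero ▸ (LinearMap.mem_ker.2 h) : y ∈ LinearMap.range (F.dLin 0))
  exact ⟨_, comp_mem _ i m, (dLin_comp F 0 i m).trans (comp_of_mem _ hy)⟩

theorem exists_lift_succ (p i : ℕ) (y : Fin (F.rk (p + 1)) → (MvPolynomial (Fin (r + 1)) k)) (hy : y ∈ freeP k r (F.deg (p + 1)) i)
    (h : dL F p y = 0) : ∃ m ∈ freeP k r (F.deg (p + 2)) i, dL F (p + 1) m = y := by
  obtain ⟨m, rfl⟩ := (F.exact_succ p ▸ (LinearMap.mem_ker.2 h) : y ∈ LinearMap.range _)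
  exact ⟨_, comp_mem _ i m, (dLin_comp F (p + 1) i m).trans (comp_of_mem _ hy)⟩

theorem augLin_dLin : augL F ∘ₗ dL F 0 = 0 :=
  LinearMap.range_le_ker_iff.1 F.exact_zero.ge

theorem dLin_dLin (p : ℕ) : dL F p ∘ₗ dL F (p + 1) = 0 :=
  LinearMap.range_le_ker_iff.1 (F.exact_succ p).ge

theorem hP_free {n : ℕ} (e : Fin n → ℤ) (c : (MvPolynomial (Fin (r + 1)) k)) (i : ℕ) (v : Fin n → (MvPolynomial (Fin (r + 1)) k)) (_ : v ∈ freeP k r e i)
    (h : c • v = 0) (l : ℕ) : ((decompose (CohB1.polyGrading r k) c l : (CohB1.polyGrading r k) l) : (MvPolynomial (Fin (r + 1)) k)) • v = 0 := by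
  rcases smul_eq_zero.1 h with h | h
  · subst h; simp
  · subst h; simp

theorem hP_module [SetLike.GradedSMul (CohB1.polyGrading r k) fun n : ℕ => ℳ (n : ℤ)] (c : (MvPolynomial (Fin (r + 1)) k)) (i : ℕ) (m : M)
    (hm : m ∈ ℳ (i : ℤ)) (h : c • m = 0) (l : ℕ) : ((decompose (CohB1.polyGrading r k) c l : (CohB1.polyGrading r k) l) : (MvPolynomial (Fin (r + 1)) k)) • m = 0 := by
  have h1 := decompose_smul_of_mem (GrSyz.stdGr k (Fin (r + 1))) ℳ hm c ((l : ℤ) + i)
  rw [h, decompose_zero, DirectSum.zero_apply, ZeroMemClass.coe_zero, add_sub_cancel_right] at h1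
  rw [decompose_natCast]
  exact h1.symm

/-- A coordinate. -/
def prj {n : ℕ} (b : Fin n) : (Fin n → MvPolynomial (Fin (r + 1)) k) →ₗ[MvPolynomial (Fin (r + 1)) k]
    MvPolynomial (Fin (r + 1)) k := LinearMap.proj b

theorem prj_apply {n : ℕ} (b : Fin n) (v : Fin n → MvPolynomial (Fin (r + 1)) k) : prj b v = v b := rfl

end Groth.Agent.GrLib8.RegTilde
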