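import Groth.Agent.GrLib8.RegTilde.Main
import Groth.Agent.GrLib8.RegTilde.Free
import Groth.Agent.PnCoh.Sections
import Groth.Agent.S0844
import Groth.Prelude.Def_GrMod2

/-!
# The resolution of a graded module over a polynomial ring, on projective space
-/

set_option linter.style.haveILetI false
set_option linter.unusedSectionVars false
set_option backward.isDefEq.respectTransparency false
set_option backward.isDefEq.respectTransparency.types false
set_option maxHeartbeats 1000000

noncomputable section

universe u

open CategoryTheory CategoryTheory.Limits AlgebraicGeometry TopologicalSpace Opposite DirectSum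
open Groth.Agent.PnCoh Groth.Agent.PnCoh.Finite

namespace Groth.Agent.GrLib8.RegTilde

attribute [local instance 10000] CommRing.toCommSemiring CommSemiring.toSemiring

variable {k : Type u} [Field k] {r : ℕ}

variable (k r) in
/-- The coordinates. -/
def coord : ULift.{u} (Fin (r + 1)) → MvPolynomial (Fin (r + 1)) k :=
  fun j => MvPolynomial.X j.down

theorem coord_mem (j : ULift.{u} (Fin (r + 1))) : coord k r j ∈ CohB1.polyGrading r k 1 :=
  MvPolynomial.isHomogeneous_X k j.down

theorem coord_cover : ⨆ j, D (CohB1.polyGrading r k) (coord k r j) = ⊤ := by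
  refine top_le_iff.1 ?_
  refine le_trans (PnCoh.iSup_mOpen_single (ι := Fin (r + 1)) (R := k)).ge ?_
  exact iSup_le fun j => le_iSup_of_le (ULift.up j) le_rfl

variable {M : Type u} [AddCommGroup M] [Module k M] [Module (MvPolynomial (Fin (r + 1)) k) M]
  [IsScalarTower k (MvPolynomial (Fin (r + 1)) k) M]
  {ℳ : ℤ → Submodule k M} [DirectSum.Decomposition ℳ] [SetLike.GradedSMul (GrSyz.stdGr k (Fin (r + 1))) ℳ]
  [SetLike.GradedSMul (CohB1.polyGrading r k) fun n : ℕ => ℳ (n : ℤ)]
  (F : GrSyz.FreeRes (GrSyz.stdGr k (Fin (r + 1))) ℳ)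

/-- The resolution in the abstract form. -/
def toRes : Res (𝒜 := CohB1.polyGrading r k) (N := fun p => Fin (F.rk p) → MvPolynomial (Fin (r + 1)) k)
    (fun p => freeP k r (F.deg p)) (fun n : ℕ => ℳ (n : ℤ)) where
  v := dL F
  v_mem := dLin_mem F
  aug := augL F
  aug_mem := augLin_mem F
  aug_v := augLin_dLin F
  v_v := dLin_dLin F
  hM c i m hm h l := hP_module c i m hm h l
  hN p := hP_free (F.deg p)
  lift_aug := exists_lift_aug F
  lift_zero := exists_lift_zero F
  lift_succ := exists_lift_succ F
  n := F.rk
  e := F.deg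
  w p b := Pi.single b 1
  π p b := prj b
  w_mem p b i j hij a ha c := by
    show a * (Pi.single (M := fun _ => MvPolynomial (Fin (r + 1)) k) b 1 : Fin (F.rk p) → _) c ∈ _
    rcases eq_or_ne c b with rfl | hc
    · rw [Pi.single_eq_same, mul_one, show (j : ℤ) - F.deg p c = (i : ℤ) by omega]
      exact mem_stdGr_natCast.2 ha
    · rw [Pi.single_eq_of_ne hc, mul_zero]; exact zero_mem _
  π_mem p b i m hm := eq_zero_or_exists (hm b)
  total p m := by
    funext c
    simp [Finset.sum_apply, Pi.single_apply, prj_apply]

include F in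
theorem subsingleton_HH_twist_tilde {d : ℤ} (hF : F.IsGenLE d) (i : ℕ) (hi : 1 ≤ i) :
    Subsingleton (Coh.HH (CohB1.ProjSpace r k)
      (CohB1.tensorMod (GrTilde.tilde (CohB1.polyGrading r k) (fun n : ℕ => ℳ (n : ℤ)) 0)
        (Twist.twistProjSpace r k (d - i))) i) := by
  exact (toRes F).subsingleton_HH_tilde (coord k r) coord_mem coord_cover
    (fun e q hq h => S0844.result k r e q (fun h' => by omega) fun ⟨hqr, hle⟩ => by have := h hqr; omega)
    (fun G hG q hq => QCoh.HH_subsingleton_of_cover (X := Proj (CohB1.polyGrading r k)) (r + 1)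
      (fun j => D (CohB1.polyGrading r k) (coord k r (ULift.up j)))
      (fun _ => isAffineOpen_D coord_mem _)
      (top_le_iff.1 (coord_cover.ge.trans (iSup_le fun j => le_iSup_of_le j.down le_rfl)))
      (fun _ _ hV hW => IsAffineOpen.inf hV hW) hG q hq)
    (fun p b => hF p b) i hi

end Groth.Agent.GrLib8.RegTilde
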