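import Groth.Agent.GrModX.QCohTilde
import Groth.Prelude.Def_Twist2
import Mathlib.RingTheory.Localization.Module

/-!
# Coordinates of `M~`: maps to and from twisting sheaves
-/

set_option linter.unusedSectionVars false
set_option linter.style.haveILetI false

noncomputable section

universe u

open CategoryTheory CategoryTheory.Limits AlgebraicGeometry TopologicalSpace DirectSum Opposite

namespace Groth.Agent.GrLib8.RegTilde

variable {R A : Type u} [CommRing R] [CommRing A] [Algebra R A] (𝒜 : ℕ → Submodule R A) [GradedAlgebra 𝒜]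
variable {N τ : Type u} [AddCommGroup N] [Module A N] [SetLike τ N] [AddSubgroupClass τ N] {𝒩 : ℕ → τ}
  [SetLike.GradedSMul 𝒜 𝒩]

section QMap

variable (w : N) (e : ℤ) (hw : ∀ (i j : ℕ), (i : ℤ) + e = j → ∀ a ∈ 𝒜 i, a • w ∈ 𝒩 j)

/-- `a / s ↦ (a • w) / s`. -/
def qLoc (x : ProjectiveSpectrum 𝒜) :
    Twist.Loc 𝒜 x →ₗ[Twist.Loc 𝒜 x] GrMod.LocMod 𝒜 (M := N) x :=
  LinearMap.toSpanSingleton (Twist.Loc 𝒜 x) (GrMod.LocMod 𝒜 (M := N) x)
    (LocalizedModule.mk (S := x.asHomogeneousIdeal.toIdeal.primeCompl) w 1)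

theorem qLoc_mk (x : ProjectiveSpectrum 𝒜) (a : A) (s : x.asHomogeneousIdeal.toIdeal.primeCompl) :
    qLoc 𝒜 w x (Localization.mk a s) = LocalizedModule.mk (a • w) s := by
  show (Localization.mk a s : Twist.Loc 𝒜 x) • (LocalizedModule.mk (S := x.asHomogeneousIdeal.toIdeal.primeCompl) w 1) = _
  rw [LocalizedModule.mk_smul_mk, mul_one]

include hw in
theorem qLoc_mem (x : ProjectiveSpectrum 𝒜) {q : Twist.Loc 𝒜 x} (hq : q ∈ Twist.twistAt 𝒜 (-e) x) :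
    qLoc 𝒜 w x q ∈ GrMod.tildeAt 𝒜 𝒩 0 x := by
  induction hq using Submodule.span_induction with
  | mem q h =>
    obtain ⟨i, j, a, s, hs, hij, rfl⟩ := h
    rw [qLoc_mk]
    exact Submodule.subset_span ⟨j, j, ⟨a.1 • w, hw i j (by omega) a.1 a.2⟩, s, hs, by omega, rfl⟩
  | zero => rw [map_zero]; exact zero_mem _
  | add q q' _ _ h h' => rw [map_add]; exact add_mem h h'
  | smul c q _ h =>
    have h1 : qLoc 𝒜 w x (c • q) = c.val • qLoc 𝒜 w x q := by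
      rw [Algebra.smul_def, HomogeneousLocalization.algebraMap_apply, ← smul_eq_mul, map_smul]
    rw [h1, ← GrMod.a0_smul_def]
    exact Submodule.smul_mem _ c h

/-- The map on sections. -/
def qApp {U : (Opens (ProjectiveSpectrum.top 𝒜))ᵒᵖ} (f : Twist.sectN (𝒜 := 𝒜) (-e) U) :
    GrMod.sect 𝒜 𝒩 0 U :=
  ⟨fun x => ⟨qLoc 𝒜 w x.1 (f.1 x).1, qLoc_mem 𝒜 w e hw x.1 (f.1 x).2⟩, fun x => by
    obtain ⟨V, mV, iV, i, j, a, s, nin, c, h⟩ := f.2 x
    rcases c with c | c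
    · refine ⟨V, mV, iV, j, j, ⟨a.1 • w, hw i j (by omega) a.1 a.2⟩, s, nin, Or.inl (by omega), fun y => ?_⟩
      show qLoc 𝒜 w y.1 (f.1 (iV y)).1 = _
      exact (congrArg (qLoc 𝒜 w y.1) (h y)).trans (qLoc_mk 𝒜 w y.1 _ _)
    · refine ⟨V, mV, iV, j, j, ⟨0, zero_mem _⟩, s, nin, Or.inr rfl, fun y => ?_⟩
      show qLoc 𝒜 w y.1 (f.1 (iV y)).1 = _
      refine ((congrArg (qLoc 𝒜 w y.1) (h y)).trans (qLoc_mk 𝒜 w y.1 _ _)).trans ?_
      rw [c, zero_smul]⟩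

/-- `O(-e) ⟶ M~` attached to an element of degree `e`. -/
def qMap : Twist.twist 𝒜 (-e) ⟶ GrMod.tilde 𝒜 𝒩 0 :=
  ⟨PresheafOfModules.homMk
    { app := fun _ => AddCommGrpCat.ofHom
        { toFun := qApp 𝒜 w e hw
          map_zero' := Subtype.ext (funext fun x => Subtype.ext (map_zero (qLoc 𝒜 w x.1)))
          map_add' := fun f g => Subtype.ext (funext fun x => Subtype.ext
            (map_add (qLoc 𝒜 w x.1) (f.1 x).1 (g.1 x).1)) }
      naturality := fun _ _ _ => rfl }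
    fun U r f => Subtype.ext (funext fun x => Subtype.ext (by
      refine (congrArg (qLoc 𝒜 w x.1) (Twist.coe_smul_val (-e) x.1 (r.1 x) (f.1 x))).trans ?_
      exact map_smul (qLoc 𝒜 w x.1) (r.1 x).val (f.1 x).1))⟩

theorem qMap_val (V : (Proj 𝒜).Opens) (f : Γ(Twist.twist 𝒜 (-e), V)) (y : V) :
    GrMod.val ((qMap 𝒜 w e hw).app V f) y =
      qLoc 𝒜 w y.1 ((f : Twist.sectN (𝒜 := 𝒜) (-e) (op V)).1 y).1 := rfl

end QMap

section PMap

variable (π : N →ₗ[A] A) (e : ℤ)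
  (hπ : ∀ (i : ℕ) (m : N), m ∈ 𝒩 i → π m = 0 ∨ ∃ j : ℕ, (j : ℤ) = i - e ∧ π m ∈ 𝒜 j)

/-- `m / s ↦ π m / s`. -/
def pLoc (x : ProjectiveSpectrum 𝒜) : GrMod.LocMod 𝒜 (M := N) x →ₗ[Twist.Loc 𝒜 x] Twist.Loc 𝒜 x :=
  LinearMap.extendScalarsOfIsLocalization x.asHomogeneousIdeal.toIdeal.primeCompl _
    (IsLocalizedModule.map x.asHomogeneousIdeal.toIdeal.primeCompl
      (LocalizedModule.mkLinearMap x.asHomogeneousIdeal.toIdeal.primeCompl N)
      (Algebra.linearMap A (Twist.Loc 𝒜 x)) π)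

theorem pLoc_mk (x : ProjectiveSpectrum 𝒜) (m : N) (s : x.asHomogeneousIdeal.toIdeal.primeCompl) :
    pLoc 𝒜 π x (LocalizedModule.mk m s) = Localization.mk (π m) s := by
  have h1 : pLoc 𝒜 π x (LocalizedModule.mk m 1) = Localization.mk (π m) 1 :=
    (IsLocalizedModule.map_apply _ _ _ π m).trans (Localization.mk_one_eq_algebraMap _).symm
  have h2 : (LocalizedModule.mk m s : GrMod.LocMod 𝒜 (M := N) x) =
      (Localization.mk 1 s : Twist.Loc 𝒜 x) • LocalizedModule.mk m 1 := by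
    rw [LocalizedModule.mk_smul_mk, one_smul, mul_one]
  rw [h2, map_smul, h1, smul_eq_mul, Localization.mk_mul, one_mul, mul_one]

include hπ in
theorem pLoc_mem (x : ProjectiveSpectrum 𝒜) {q : GrMod.LocMod 𝒜 (M := N) x}
    (hq : q ∈ GrMod.tildeAt 𝒜 𝒩 0 x) : pLoc 𝒜 π x q ∈ Twist.twistAt 𝒜 (-e) x := by
  induction hq using Submodule.span_induction with
  | mem q h =>
    obtain ⟨i, j, m, s, hs, hij, rfl⟩ := h
    rw [pLoc_mk]
    rcases hπ i m m.2 with h0 | ⟨l, hl, hmem⟩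
    · rw [h0, Localization.mk_zero]; exact zero_mem _
    · exact Submodule.subset_span ⟨l, j, ⟨π m, hmem⟩, s, hs, by omega, rfl⟩
  | zero => rw [map_zero]; exact zero_mem _
  | add q q' _ _ h h' => rw [map_add]; exact add_mem h h'
  | smul c q _ h =>
    have h1 : pLoc 𝒜 π x (c • q) = c • pLoc 𝒜 π x q := by
      rw [GrMod.a0_smul_def, map_smul, Algebra.smul_def c (pLoc 𝒜 π x q),
        HomogeneousLocalization.algebraMap_apply, smul_eq_mul]
    rw [h1]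
    exact Submodule.smul_mem _ c h

/-- The map on sections. -/
def pApp {U : (Opens (ProjectiveSpectrum.top 𝒜))ᵒᵖ} (f : GrMod.sect 𝒜 𝒩 0 U) :
    Twist.sectN (𝒜 := 𝒜) (-e) U :=
  ⟨fun x => ⟨pLoc 𝒜 π x.1 (f.1 x).1, pLoc_mem 𝒜 π e hπ x.1 (f.1 x).2⟩, fun x => by
    obtain ⟨V, mV, iV, i, j, m, s, nin, c, h⟩ := f.2 x
    have key : ∀ y : V, pLoc 𝒜 π y.1 (f.1 (iV y)).1 = Localization.mk (π m) ⟨s.1, nin y⟩ := fun y =>
      (congrArg (pLoc 𝒜 π y.1) (h y)).trans (pLoc_mk 𝒜 π y.1 _ _)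
    rcases hπ i m m.2 with h0 | ⟨l, hl, hmem⟩
    · exact ⟨V, mV, iV, 0, j, 0, s, nin, Or.inr rfl, fun y => (key y).trans (by rw [h0]; rfl)⟩
    · refine ⟨V, mV, iV, l, j, ⟨π m, hmem⟩, s, nin, ?_, key⟩
      rcases c with c | c
      · exact Or.inl (by omega)
      · exact Or.inr (show π m = 0 by rw [c, map_zero])⟩

/-- `M~ ⟶ O(-e)` attached to a coordinate of degree `-e`. -/
def pMap : GrMod.tilde 𝒜 𝒩 0 ⟶ Twist.twist 𝒜 (-e) :=
  ⟨PresheafOfModules.homMk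
    { app := fun _ => AddCommGrpCat.ofHom
        { toFun := pApp 𝒜 π e hπ
          map_zero' := Subtype.ext (funext fun x => Subtype.ext (map_zero (pLoc 𝒜 π x.1)))
          map_add' := fun f g => Subtype.ext (funext fun x => Subtype.ext
            (map_add (pLoc 𝒜 π x.1) (f.1 x).1 (g.1 x).1)) }
      naturality := fun _ _ _ => rfl }
    fun U r f => Subtype.ext (funext fun x => Subtype.ext (by
      refine (congrArg (pLoc 𝒜 π x.1) (GrMod.coe_smul_val 0 x.1 (r.1 x) (f.1 x))).trans ?_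
      refine (map_smul (pLoc 𝒜 π x.1) (r.1 x).val (f.1 x).1).trans ?_
      exact (Twist.coe_smul_val (-e) x.1 (r.1 x) ((pApp 𝒜 π e hπ f).1 x)).symm))⟩

theorem pMap_val (V : (Proj 𝒜).Opens) (f : Γ(GrMod.tilde 𝒜 𝒩 0, V)) (y : V) :
    (((pMap 𝒜 π e hπ).app V f : Twist.sectN (𝒜 := 𝒜) (-e) (op V)).1 y).1 =
      pLoc 𝒜 π y.1 (GrMod.val f y) := rfl

end PMap

section Decomp

variable {ι : Type*} [Fintype ι] (w : ι → N) (π : ι → N →ₗ[A] A) (e : ι → ℤ)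
  (hw : ∀ b (i j : ℕ), (i : ℤ) + e b = j → ∀ a ∈ 𝒜 i, a • w b ∈ 𝒩 j)
  (hπ : ∀ b (i : ℕ) (m : N), m ∈ 𝒩 i → π b m = 0 ∨ ∃ j : ℕ, (j : ℤ) = i - e b ∧ π b m ∈ 𝒜 j)

theorem sum_pMap_qMap (htot : ∀ m, ∑ b, π b m • w b = m) :
    ∑ b, pMap 𝒜 (π b) (e b) (hπ b) ≫ qMap 𝒜 (w b) (e b) (hw b) = 𝟙 (GrMod.tilde 𝒜 𝒩 0) := by
  refine Scheme.Modules.hom_ext _ _ fun U => ?_
  ext a
  refine GrModX.ext_val 𝒜 𝒩 fun y => ?_
  let F : (GrMod.tilde 𝒜 𝒩 0 ⟶ GrMod.tilde 𝒜 𝒩 0) →+ GrMod.LocMod 𝒜 (M := N) y.1 :=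
    { toFun := fun ψ => GrMod.val (ψ.app U a) y
      map_zero' := rfl
      map_add' := fun _ _ => rfl }
  show F _ = F _
  rw [map_sum]
  show ∑ b, qLoc 𝒜 (w b) y.1 (pLoc 𝒜 (π b) y.1 (GrMod.val a y)) = GrMod.val a y
  induction GrMod.val a y using LocalizedModule.induction_on with
  | h m s =>
    calc ∑ b, qLoc 𝒜 (w b) y.1 (pLoc 𝒜 (π b) y.1 (LocalizedModule.mk m s))
        = ∑ b, (Localization.mk 1 s : Twist.Loc 𝒜 y.1) • LocalizedModule.mkLinearMap _ N (π b m • w b) := by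
          refine Finset.sum_congr rfl fun b _ => ?_
          refine ((congrArg (qLoc 𝒜 (w b) y.1) (pLoc_mk 𝒜 (π b) y.1 m s)).trans (qLoc_mk 𝒜 (w b) y.1 _ s)).trans ?_
          refine Eq.trans ?_ (LocalizedModule.mk_smul_mk 1 (π b m • w b) s 1).symm
          rw [one_smul, mul_one]
      _ = LocalizedModule.mk m s := by
          rw [← Finset.smul_sum, ← map_sum, htot]
          refine (LocalizedModule.mk_smul_mk 1 m s 1).trans ?_
          rw [one_smul, mul_one]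

end Decomp

end Groth.Agent.GrLib8.RegTilde
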