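import Groth.Agent.GrLib8.RegTilde.Coord
import Groth.Agent.GrLib8.RegTilde.Exact
import Groth.Agent.PnCoh.Finite.TwistInv
import Groth.Agent.PnCoh.Finite.SerreVanishing
import Groth.Agent.PnCoh.Finite.Projective
import Groth.Agent.PnCoh.TwistQCoh
import Groth.Agent.QCoh.Bound
import Groth.Agent.QCoh.OpenSub
import Mathlib.CategoryTheory.Abelian.Exact
import Groth.Agent.QCoh.DevissageIdeal
import Mathlib.CategoryTheory.Limits.Preserves.Shapes.Kernels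

/-!
# A resolution generated in bounded degrees makes the sheaf regular

Everything is over an abstract graded algebra so that the twisting sheaves and the sheaves `M~` share one
presentation of the grading.
-/

set_option linter.style.haveILetI false
set_option linter.unusedSectionVars false
set_option linter.unusedVariables false
set_option backward.isDefEq.respectTransparency false
set_option backward.isDefEq.respectTransparency.types false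
set_option maxHeartbeats 1000000

noncomputable section

universe u

open CategoryTheory CategoryTheory.Limits AlgebraicGeometry TopologicalSpace Opposite DirectSum
open Groth.Agent.PnCoh Groth.Agent.PnCoh.Finite

namespace Groth.Agent.GrLib8.RegTilde

theorem retract_of_sum {C : Type*} [Category C] [Preadditive C] {β : Type*} [Fintype β] (T : β → C)
    [HasBiproduct T] {E : C} (a : ∀ b, E ⟶ T b) (c : ∀ b, T b ⟶ E) (htot : ∑ b, biproduct.π T b ≫ biproduct.ι T b = 𝟙 (⨁ T))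
    (h : ∑ b, a b ≫ c b = 𝟙 E) : biproduct.lift a ≫ biproduct.desc c = 𝟙 E := by
  rw [← Category.id_comp (biproduct.desc c), ← htot, Preadditive.sum_comp, Preadditive.comp_sum, ← h]
  simp only [Category.assoc, biproduct.ι_desc, biproduct.lift_π_assoc]

variable {R A : Type u} [CommRing R] [CommRing A] [Algebra R A] {𝒜 : ℕ → Submodule R A} [GradedAlgebra 𝒜]
  {κ : Type u} (g : κ → A) (hg : ∀ j, g j ∈ 𝒜 1) (hcov : ⨆ j, D 𝒜 (g j) = ⊤)
variable {N : ℕ → Type u} [∀ p, AddCommGroup (N p)] [∀ p, Module A (N p)] {τ : ℕ → Type u}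
  [∀ p, SetLike (τ p) (N p)] [∀ p, AddSubgroupClass (τ p) (N p)] (𝒩 : ∀ p, ℕ → τ p)
  [∀ p, SetLike.GradedSMul 𝒜 (𝒩 p)]
variable {M τM : Type u} [AddCommGroup M] [Module A M] [SetLike τM M] [AddSubgroupClass τM M] (ℳ : ℕ → τM)
  [SetLike.GradedSMul 𝒜 ℳ]

/-- A resolution of `M` in non-negative degrees by modules with homogeneous coordinates. -/
structure Res where
  v : ∀ p, N (p + 1) →ₗ[A] N p
  v_mem : ∀ p (i : ℕ) (y : N (p + 1)), y ∈ 𝒩 (p + 1) i → v p y ∈ 𝒩 p i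
  aug : N 0 →ₗ[A] M
  aug_mem : ∀ (i : ℕ) (y : N 0), y ∈ 𝒩 0 i → aug y ∈ ℳ i
  aug_v : aug ∘ₗ v 0 = 0
  v_v : ∀ p, v p ∘ₗ v (p + 1) = 0
  hM : ∀ (c : A) (i : ℕ) (m : M), m ∈ ℳ i → c • m = 0 → ∀ e, (decompose 𝒜 c e : A) • m = 0
  hN : ∀ p (c : A) (i : ℕ) (y : N p), y ∈ 𝒩 p i → c • y = 0 → ∀ e, (decompose 𝒜 c e : A) • y = 0
  lift_aug : ∀ (i : ℕ) (m : M), m ∈ ℳ i → ∃ y ∈ 𝒩 0 i, aug y = m
  lift_zero : ∀ (i : ℕ) (y : N 0), y ∈ 𝒩 0 i → aug y = 0 → ∃ z ∈ 𝒩 1 i, v 0 z = y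
  lift_succ : ∀ p (i : ℕ) (y : N (p + 1)), y ∈ 𝒩 (p + 1) i → v p y = 0 → ∃ z ∈ 𝒩 (p + 2) i, v (p + 1) z = y
  n : ℕ → ℕ
  e : ∀ p, Fin (n p) → ℤ
  w : ∀ p, Fin (n p) → N p
  π : ∀ p, Fin (n p) → (N p →ₗ[A] A)
  w_mem : ∀ p b (i j : ℕ), (i : ℤ) + e p b = j → ∀ a ∈ 𝒜 i, a • w p b ∈ 𝒩 p j
  π_mem : ∀ p b (i : ℕ) (y : N p), y ∈ 𝒩 p i → π p b y = 0 ∨ ∃ j : ℕ, (j : ℤ) = i - e p b ∧ π p b y ∈ 𝒜 j
  total : ∀ p (y : N p), ∑ b, π p b y • w p b = y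

variable {𝒩 ℳ} (F : Res (𝒜 := 𝒜) 𝒩 ℳ)

namespace Res

/-- The syzygy sheaves. -/
def Z : ℕ → (Proj 𝒜).Modules
  | 0 => kernel (GrMod.map 𝒜 F.aug F.aug_mem 0)
  | p + 1 => kernel ((GrMod.map 𝒜 (F.v p) (F.v_mem p) 0))

theorem exists_shortExact (p : ℕ) :
    ∃ S : ShortComplex (Proj 𝒜).Modules, S.ShortExact ∧
      Nonempty (S.X₁ ≅ F.Z (p + 1)) ∧ Nonempty (S.X₂ ≅ GrMod.tilde 𝒜 (𝒩 (p + 1)) 0) ∧ Nonempty (S.X₃ ≅ F.Z p) := by
  have main : ∀ {W : (Proj 𝒜).Modules} (ψ : GrMod.tilde 𝒜 (𝒩 p) 0 ⟶ W)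
      (w : (GrMod.map 𝒜 (F.v p) (F.v_mem p) 0) ≫ ψ = 0) [Epi (kernel.lift ψ ((GrMod.map 𝒜 (F.v p) (F.v_mem p) 0)) w)],
      ∃ S : ShortComplex (Proj 𝒜).Modules, S.ShortExact ∧
        Nonempty (S.X₁ ≅ kernel ((GrMod.map 𝒜 (F.v p) (F.v_mem p) 0))) ∧ Nonempty (S.X₂ ≅ GrMod.tilde 𝒜 (𝒩 (p + 1)) 0) ∧ Nonempty (S.X₃ ≅ kernel ψ) := by
    intro W ψ w _
    refine ⟨ShortComplex.mk (kernel.ι (kernel.lift ψ ((GrMod.map 𝒜 (F.v p) (F.v_mem p) 0)) w)) (kernel.lift ψ ((GrMod.map 𝒜 (F.v p) (F.v_mem p) 0)) w) (kernel.condition _),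
      { exact := ShortComplex.exact_of_f_is_kernel _ (kernelIsKernel _) }, ⟨?_⟩, ⟨Iso.refl _⟩, ⟨Iso.refl _⟩⟩
    exact (kernelCompMono (kernel.lift ψ ((GrMod.map 𝒜 (F.v p) (F.v_mem p) 0)) w) (kernel.ι ψ)).symm ≪≫ kernelIsoOfEq (kernel.lift_ι _ _ _)
  cases p with
  | zero =>
    obtain ⟨w, h⟩ := exact_map_tilde 𝒜 (F.v 0) (F.v_mem 0) F.aug F.aug_mem F.aug_v F.hM F.lift_zero 0
    exact main (GrMod.map 𝒜 F.aug F.aug_mem 0) w
  | succ q =>
    obtain ⟨w, h⟩ := exact_map_tilde 𝒜 (F.v (q + 1)) (F.v_mem (q + 1)) (F.v q) (F.v_mem q) (F.v_v q) (F.hN q)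
      (F.lift_succ q) 0
    exact main ((GrMod.map 𝒜 (F.v q) (F.v_mem q) 0)) w

include hg hcov in
theorem exists_decomposition (p : ℕ) (t : ℤ) :
    ∃ (a : ∀ b, (twistF t).obj (GrMod.tilde 𝒜 (𝒩 p) 0) ⟶ (twistF (𝒜 := 𝒜) t).obj (Twist.twist 𝒜 (-(F.e p b)))) (c : ∀ b, (twistF (𝒜 := 𝒜) t).obj (Twist.twist 𝒜 (-(F.e p b))) ⟶ (twistF t).obj (GrMod.tilde 𝒜 (𝒩 p) 0)),
      ∑ b, a b ≫ c b = 𝟙 ((twistF (𝒜 := 𝒜) t).obj (GrMod.tilde 𝒜 (𝒩 p) 0)) := by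
  haveI : (twistF (𝒜 := 𝒜) t).Additive := Functor.additive_of_preserves_binary_products _
  refine ⟨fun b => (twistF t).map (pMap 𝒜 (F.π p b) (F.e p b) (F.π_mem p b)),
    fun b => (twistF t).map (qMap 𝒜 (F.w p b) (F.e p b) (F.w_mem p b)), ?_⟩
  rw [← (twistF t).map_id, ← sum_pMap_qMap 𝒜 (F.w p) (F.π p) (F.e p) (F.w_mem p) (F.π_mem p) (F.total p),
    Functor.map_sum]
  simp only [Functor.map_comp]

include F hg hcov in
theorem isQCoh_T (p : ℕ) (t : ℤ) : Coh.IsQCoh ((twistF t).obj (GrMod.tilde 𝒜 (𝒩 p) 0)) := by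
  haveI := Abelian.hasFiniteBiproducts (C := (Proj 𝒜).Modules)
  obtain ⟨a, c, h⟩ := F.exists_decomposition g hg hcov p t
  let B : ULift.{u} (Fin (F.n p)) → (Proj 𝒜).Modules := fun b => (twistF (𝒜 := 𝒜) t).obj (Twist.twist 𝒜 (-(F.e p b.down)))
  refine isQCoh_of_retract (B := ⨁ B) (QCoh.isQCoh_biproduct B fun b => ?_)
    (biproduct.lift (f := B) fun b => a b.down) (biproduct.desc (f := B) fun b => c b.down) ?_
  · obtain ⟨e⟩ := twist_tensor_iso g hg hcov (-(F.e p b.down)) t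
    exact (QCoh.isQCoh_iff_iso e).2 (PnCoh.isQCoh_twist g hg hcov _)
  · exact retract_of_sum B (fun b => a b.down) (fun b => c b.down) (PnCoh.Finite.biproduct_total B)
      ((Fintype.sum_equiv Equiv.ulift _ _ fun _ => rfl).trans h)

variable {r : ℕ} (htw : ∀ (e : ℤ) (q : ℕ), 1 ≤ q → (q = r → -(r : ℤ) ≤ e) →
    Subsingleton (Coh.HH (Proj 𝒜) (Twist.twist 𝒜 e) q))
  (hhigh : ∀ G : (Proj 𝒜).Modules, Coh.IsQCoh G → ∀ q, r < q → Subsingleton (Coh.HH (Proj 𝒜) G q))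
  {d : ℤ} (hF : ∀ p b, F.e p b ≤ d + p)

include F hg hcov htw hF in
theorem subsingleton_HH_T (p : ℕ) (t : ℤ) (q : ℕ) (hq : 1 ≤ q) (ht : q = r → d + p ≤ t + r) :
    Subsingleton (Coh.HH (Proj 𝒜) ((twistF t).obj (GrMod.tilde 𝒜 (𝒩 p) 0)) q) := by
  obtain ⟨a, c, h⟩ := F.exists_decomposition g hg hcov p t
  refine subsingleton_HH_of_decomposition _ a c h q fun b => ?_
  obtain ⟨e⟩ := twist_tensor_iso g hg hcov (-(F.e p b)) t
  refine QCoh.subsingleton_HH_of_iso e.symm q (htw _ q hq fun hqr => ?_)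
  have h1 := ht hqr
  have h2 := hF p b
  omega

include hg hcov in
theorem isQCoh_Z_succ (p : ℕ) (t : ℤ) : Coh.IsQCoh ((twistF (𝒜 := 𝒜) t).obj (F.Z (p + 1))) := by
  haveI : (twistF (𝒜 := 𝒜) t).Additive := Functor.additive_of_preserves_binary_products _
  obtain ⟨_, _⟩ := ((twistF (𝒜 := 𝒜) t).exact_tfae.out 0 3).1 fun S hS => shortExact_twistBy g hg hcov t hS
  exact (QCoh.isQCoh_iff_iso (PreservesKernel.iso (twistF t) ((GrMod.map 𝒜 (F.v p) (F.v_mem p) 0)))).2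
    (QCoh.isQCoh_kernel (F.isQCoh_T g hg hcov (p + 1) t) (F.isQCoh_T g hg hcov p t) _)

include hg hcov htw hhigh hF in
theorem subsingleton_HH_Z {i : ℕ} (hi : 1 ≤ i) : ∀ (m p : ℕ), r ≤ i + p + m →
    Subsingleton (Coh.HH (Proj 𝒜) ((twistF (d - i)).obj (F.Z p)) (i + p + 1)) := by
  intro m
  induction m with
  | zero =>
    intro p hp
    rcases p with _ | q
    · obtain ⟨S, hS, ⟨e1⟩, ⟨e2⟩, ⟨e3⟩⟩ := F.exists_shortExact 0
      refine QCoh.subsingleton_HH_of_iso ((twistF (d - i)).mapIso e3) _ ?_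
      refine subsingleton_HH_X₃ (shortExact_twistBy g hg hcov (d - i) hS) _ ?_ ?_
      · exact QCoh.subsingleton_HH_of_iso ((twistF (d - i)).mapIso e2.symm) _
          (F.subsingleton_HH_T g hg hcov htw hF 1 _ _ (by omega) (fun h => by omega))
      · exact QCoh.subsingleton_HH_of_iso ((twistF (d - i)).mapIso e1.symm) _
          (hhigh _ (F.isQCoh_Z_succ g hg hcov 0 _) _ (by omega))
    · exact hhigh _ (F.isQCoh_Z_succ g hg hcov q _) _ (by omega)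
  | succ m ih =>
    intro p hp
    obtain ⟨S, hS, ⟨e1⟩, ⟨e2⟩, ⟨e3⟩⟩ := F.exists_shortExact p
    refine QCoh.subsingleton_HH_of_iso ((twistF (d - i)).mapIso e3) _ ?_
    refine subsingleton_HH_X₃ (shortExact_twistBy g hg hcov (d - i) hS) _ ?_ ?_
    · exact QCoh.subsingleton_HH_of_iso ((twistF (d - i)).mapIso e2.symm) _
        (F.subsingleton_HH_T g hg hcov htw hF (p + 1) _ _ (by omega) (fun h => by omega))
    · exact QCoh.subsingleton_HH_of_iso ((twistF (d - i)).mapIso e1.symm) _ (ih (p + 1) (by omega))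

include F hg hcov htw hhigh hF in
theorem subsingleton_HH_tilde (i : ℕ) (hi : 1 ≤ i) :
    Subsingleton (Coh.HH (Proj 𝒜) ((twistF (d - i)).obj (GrMod.tilde 𝒜 ℳ 0)) i) := by
  haveI : Epi (GrMod.map 𝒜 F.aug F.aug_mem 0) := epi_map_tilde 𝒜 F.aug F.aug_mem F.lift_aug 0
  let S : ShortComplex (Proj 𝒜).Modules := ShortComplex.mk (kernel.ι (GrMod.map 𝒜 F.aug F.aug_mem 0)) (GrMod.map 𝒜 F.aug F.aug_mem 0) (kernel.condition _)
  have hS : S.ShortExact := { exact := ShortComplex.exact_of_f_is_kernel _ (kernelIsKernel _) }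
  refine subsingleton_HH_X₃ (shortExact_twistBy g hg hcov (d - i) hS) i ?_ ?_
  · exact F.subsingleton_HH_T g hg hcov htw hF 0 _ i hi (fun h => by omega)
  · exact F.subsingleton_HH_Z g hg hcov htw hhigh hF hi r 0 (by omega)

end Res

end Groth.Agent.GrLib8.RegTilde
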